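import Mathlib.Algebra.MvPolynomial.NoZeroDivisors
import Mathlib.RingTheory.Valuation.LocalSubring
import Mathlib.RingTheory.Valuation.ValuationSubring
import Mathlib.RingTheory.Algebraic.Integral
import Mathlib.RingTheory.Localization.Integral

/-!
# The degree valuation ring of a rational function field, and extensions of valuation rings

Helper file for the theorem "finitely many valuation rings at infinity detect
finite-dimensionality in an affine domain".
-/

namespace Groth.Agent.Sga7.H290.DegVal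

open MvPolynomial

section

variable (k : Type*) [Field k] (ι : Type*) (L : Type*) [Field L]
  [Algebra (MvPolynomial ι k) L] [IsFractionRing (MvPolynomial ι k) L]

/-- Fractions `f / g` with `deg f ≤ deg g`. -/
def degVal : ValuationSubring L where
  carrier := {x | ∃ f g : MvPolynomial ι k, g ≠ 0 ∧ f.totalDegree ≤ g.totalDegree ∧
    x * algebraMap (MvPolynomial ι k) L g = algebraMap (MvPolynomial ι k) L f}
  mul_mem' := by
    rintro x x' ⟨f, g, hg, hfg, h⟩ ⟨f', g', hg', hfg', h'⟩
    refine ⟨f * f', g * g', mul_ne_zero hg hg', ?_, ?_⟩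
    · rw [totalDegree_mul_of_isDomain hg hg']
      exact (totalDegree_mul _ _).trans (by omega)
    · rw [map_mul, map_mul, ← h, ← h']
      ring
  one_mem' := ⟨1, 1, one_ne_zero, le_rfl, by simp⟩
  add_mem' := by
    rintro x x' ⟨f, g, hg, hfg, h⟩ ⟨f', g', hg', hfg', h'⟩
    refine ⟨f * g' + f' * g, g * g', mul_ne_zero hg hg', ?_, ?_⟩
    · rw [totalDegree_mul_of_isDomain hg hg']
      refine (totalDegree_add _ _).trans (max_le ?_ ?_)
      · exact (totalDegree_mul _ _).trans (by omega)
      · exact (totalDegree_mul _ _).trans (by omega)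
    · rw [map_mul, map_add, map_mul, map_mul, ← h, ← h']
      ring
  zero_mem' := ⟨0, 1, one_ne_zero, by simp, by simp⟩
  neg_mem' := by
    rintro x ⟨f, g, hg, hfg, h⟩
    exact ⟨-f, g, hg, by rwa [totalDegree_neg], by rw [map_neg, ← h]; ring⟩
  mem_or_inv_mem' := by
    intro x
    obtain ⟨f, g, hg, rfl⟩ := IsFractionRing.div_surjective (A := MvPolynomial ι k) x
    have hg0 : g ≠ 0 := nonZeroDivisors.ne_zero hg
    have hg1 : algebraMap (MvPolynomial ι k) L g ≠ 0 := by
      simpa using hg0
    by_cases hf : f = 0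
    · left
      exact ⟨0, 1, one_ne_zero, by simp, by simp [hf]⟩
    have hf1 : algebraMap (MvPolynomial ι k) L f ≠ 0 := by
      simpa using hf
    rcases le_total f.totalDegree g.totalDegree with h | h
    · left
      exact ⟨f, g, hg0, h, by field_simp⟩
    · right
      exact ⟨g, f, hf, h, by field_simp⟩

variable {k ι L}

theorem mem_degVal {x : L} : x ∈ degVal k ι L ↔ ∃ f g : MvPolynomial ι k, g ≠ 0 ∧
    f.totalDegree ≤ g.totalDegree ∧
    x * algebraMap (MvPolynomial ι k) L g = algebraMap (MvPolynomial ι k) L f := Iff.rfl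

theorem algebraMap_C_mem (a : k) :
    algebraMap (MvPolynomial ι k) L (C a) ∈ degVal k ι L :=
  ⟨C a, 1, one_ne_zero, by simp, by simp⟩

/-- Bounded elements of the polynomial ring have bounded degree. -/
theorem exists_bound (c : L) (hc : c ≠ 0) : ∃ N : ℕ, ∀ p : MvPolynomial ι k,
    c * algebraMap (MvPolynomial ι k) L p ∈ degVal k ι L → p.totalDegree ≤ N := by
  obtain ⟨a, b, hb, rfl⟩ := IsFractionRing.div_surjective (A := MvPolynomial ι k) c
  have hb0 : b ≠ 0 := nonZeroDivisors.ne_zero hb
  have hb1 : algebraMap (MvPolynomial ι k) L b ≠ 0 := by simpa using hb0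
  have ha0 : a ≠ 0 := by
    rintro rfl
    simp at hc
  refine ⟨b.totalDegree, fun p hp => ?_⟩
  obtain ⟨f, g, hg, hfg, h⟩ := hp
  by_cases hp0 : p = 0
  · simp [hp0]
  have h1 : a * p * g = b * f := by
    apply IsFractionRing.injective (MvPolynomial ι k) L
    simp only [map_mul]
    rw [← h]
    field_simp
  have hf0 : f ≠ 0 := by
    rintro rfl
    rw [mul_zero] at h1
    exact mul_ne_zero (mul_ne_zero ha0 hp0) hg h1
  have h2 := congrArg totalDegree h1
  rw [totalDegree_mul_of_isDomain (mul_ne_zero ha0 hp0) hg,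
    totalDegree_mul_of_isDomain ha0 hp0, totalDegree_mul_of_isDomain hb0 hf0] at h2
  omega

end

section Ext

variable {L Ω : Type*} [Field L] [Field Ω] [Algebra L Ω]

/-- Every valuation ring of `L` is cut out by a valuation ring of `Ω ⊇ L`. -/
theorem exists_ext (A : ValuationSubring L) :
    ∃ A' : ValuationSubring Ω, ∀ x : L, algebraMap L Ω x ∈ A' ↔ x ∈ A := by
  obtain ⟨A', h, hloc⟩ := IsLocalRing.exists_factor_valuationRing
    ((algebraMap L Ω).comp A.subtype)
  refine ⟨A', fun x => ⟨fun hx => ?_, fun hx => h ⟨x, hx⟩⟩⟩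
  rcases A.mem_or_inv_mem x with hx' | hx'
  · exact hx'
  by_cases hx0 : x = 0
  · rw [hx0]; exact A.zero_mem
  have hu : IsUnit ((((algebraMap L Ω).comp A.subtype).codRestrict A'.toSubring h) ⟨x⁻¹, hx'⟩) := by
    refine IsUnit.of_mul_eq_one ⟨algebraMap L Ω x, hx⟩ ?_
    ext
    simp [hx0]
  have hu' := hloc.map_nonunit _ hu
  obtain ⟨u, hu'⟩ := hu'
  have h3 : ((u⁻¹ : Aˣ) : A).1 = x := by
    have h4 : (u : A).1 * ((u⁻¹ : Aˣ) : A).1 = 1 := congrArg Subtype.val (u.mul_inv)
    rw [hu'] at h4
    have h5 : x⁻¹ * ((u⁻¹ : Aˣ) : A).1 = 1 := h4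
    field_simp at h5
    exact h5
  rw [← h3]
  exact ((u⁻¹ : Aˣ) : A).2

/-- Elements of `Ω` algebraic over `L` become integral after multiplication by a common
element of `L`. -/
theorem exists_mul_mem [Algebra.IsAlgebraic L Ω] (A' : ValuationSubring Ω) (s : Finset Ω) :
    ∃ g : L, g ≠ 0 ∧ ∀ z ∈ s, algebraMap L Ω g * z ∈ A' := by
  let A : ValuationSubring L := A'.comap (algebraMap L Ω)
  have : Algebra.IsAlgebraic A Ω := by
    have : Algebra.IsAlgebraic A L := IsLocalization.isAlgebraic L (nonZeroDivisors A)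
    exact Algebra.IsAlgebraic.trans A L Ω
  obtain ⟨a, ha, h⟩ := Algebra.IsAlgebraic.exists_integral_multiples A s
  refine ⟨a.1, fun h0 => ha (Subtype.ext h0), fun z hz => ?_⟩
  have h1 := h z hz
  let f : A →+* A' := ((algebraMap L Ω).comp A.subtype).codRestrict A'.toSubring
    (fun x => x.2)
  obtain ⟨p, hp, hp0⟩ := h1
  have h2 : IsIntegral A' (a • z) := by
    refine ⟨p.map f, hp.map f, ?_⟩
    rw [Polynomial.eval₂_map]
    exact hp0
  have h3 := (IsIntegrallyClosedIn.isIntegral_iff (R := A') (A := Ω)).mp h2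
  obtain ⟨y, hy⟩ := h3
  have h4 : a • z = algebraMap L Ω a.1 * z := by
    rw [Algebra.smul_def]
    rfl
  rw [← h4, ← hy]
  exact y.2

end Ext

end Groth.Agent.Sga7.H290.DegVal
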