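import Groth.Agent.Sga7.H290.DegVal
import Mathlib.RingTheory.DiscreteValuationRing.Basic
import Mathlib.LinearAlgebra.FiniteDimensional.Basic
import Mathlib.FieldTheory.Minpoly.Field
import Mathlib.FieldTheory.Minpoly.Finite

/-!
# Extensions of the degree valuation to a finite extension are discrete
-/

namespace Groth.Agent.Sga7.H290.Dvr

open MvPolynomial Groth.Agent.Sga7.H290.DegVal

/-- A valuation ring whose value group is, up to bounded exponent, generated by `v π` is
discrete. -/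
theorem isDVR_of_pow {F : Type*} [Field F] (O : ValuationSubring F) (π : F) (hπ0 : π ≠ 0)
    (hπ : O.valuation π < 1) (N : ℕ) (hN : N ≠ 0)
    (h : ∀ y : F, y ≠ 0 → ∃ a : ℤ, O.valuation y ^ N = O.valuation π ^ a) :
    IsDiscreteValuationRing O := by
  classical
  set v := O.valuation with hv
  have hvπ0 : 0 < v π := zero_lt_iff.mpr ((Valuation.ne_zero_iff v).mpr hπ0)
  have hex : ∃ d : ℕ, 0 < d ∧ ∃ t : F, t ≠ 0 ∧ v t ^ N = v π ^ d :=
    ⟨N, Nat.pos_of_ne_zero hN, π, hπ0, rfl⟩
  obtain ⟨hd0, t, ht0, ht⟩ := Nat.find_spec hex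
  set d := Nat.find hex with hd
  have hmin : ∀ (m : ℕ) (y : F), y ≠ 0 → v y ^ N = v π ^ m → m < d → m = 0 := by
    intro m y hy hm hlt
    by_contra hm0
    exact Nat.find_min hex hlt ⟨Nat.pos_of_ne_zero hm0, y, hy, hm⟩
  have hone : ∀ y : F, v y ^ N = 1 → v y = 1 := fun y hy => by
    rcases lt_trichotomy (v y) 1 with h1 | h1 | h1
    · exact absurd hy (pow_lt_one₀ zero_le h1 hN).ne
    · exact h1
    · exact absurd hy (one_lt_pow₀ h1 hN).ne'
  -- exponents of elements of `O`
  have hexp : ∀ y : F, y ≠ 0 → v y ≤ 1 → ∃ m : ℕ, v y ^ N = v π ^ m := by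
    intro y hy hy1
    obtain ⟨a, ha⟩ := h y hy
    rcases Int.le_total 0 a with h0 | h0
    · obtain ⟨m, rfl⟩ := Int.eq_ofNat_of_zero_le h0
      exact ⟨m, by rw [ha]; simp⟩
    · refine ⟨0, ?_⟩
      rw [pow_zero]
      apply le_antisymm (pow_le_one₀ zero_le hy1)
      rw [ha]
      obtain ⟨m, hm⟩ := Int.eq_ofNat_of_zero_le (neg_nonneg.mpr h0)
      have : a = -(m : ℤ) := by omega
      rw [this, zpow_neg, zpow_natCast]
      exact (one_le_inv₀ (pow_pos hvπ0 _)).mpr (pow_le_one₀ zero_le hπ.le)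
  have ht1 : v t < 1 := by
    rcases lt_or_ge (v t) 1 with h1 | h1
    · exact h1
    · exfalso
      have h2 : (1 : O.ValueGroup) ≤ v t ^ N := one_le_pow₀ h1
      rw [ht] at h2
      exact absurd h2 (not_le.mpr (pow_lt_one₀ zero_le hπ hd0.ne'))
  have htO : t ∈ O := (O.valuation_le_one_iff t).mp ht1.le
  apply IsDiscreteValuationRing.ofHasUnitMulPowIrreducibleFactorization
  refine ⟨⟨t, htO⟩, ⟨?_, ?_⟩, ?_⟩
  · intro hu
    rw [ValuationSubring.valuation_eq_one_iff] at hu
    exact ht1.ne hu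
  · intro x y hxy
    have hxy' : t = x.1 * y.1 := congrArg Subtype.val hxy
    have hx0 : x.1 ≠ 0 := by
      rintro h0
      rw [h0, zero_mul] at hxy'
      exact ht0 hxy'
    have hy0 : y.1 ≠ 0 := by
      rintro h0
      rw [h0, mul_zero] at hxy'
      exact ht0 hxy'
    obtain ⟨i, hi⟩ := hexp x.1 hx0 (O.valuation_le_one x)
    obtain ⟨j, hj⟩ := hexp y.1 hy0 (O.valuation_le_one y)
    have hij : i + j = d := by
      have h1 : v π ^ (i + j) = v π ^ d := by
        rw [pow_add, ← hi, ← hj, ← mul_pow, ← map_mul, ← hxy', ht]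
      exact pow_right_injective₀ hvπ0 hπ.ne h1
    rw [ValuationSubring.valuation_eq_one_iff, ValuationSubring.valuation_eq_one_iff]
    by_cases hi0 : i = 0
    · left
      exact hone _ (by rw [hi, hi0, pow_zero])
    · right
      have hj0 : j = 0 := hmin j y.1 hy0 hj (by omega)
      exact hone _ (by rw [hj, hj0, pow_zero])
  · intro x hx
    have hx0 : x.1 ≠ 0 := fun h0 => hx (Subtype.ext h0)
    obtain ⟨m, hm⟩ := hexp x.1 hx0 (O.valuation_le_one x)
    have h1 : v (x.1 / t ^ (m / d)) ^ N = v π ^ (m % d) := by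
      rw [map_div₀, map_pow, div_pow, ← pow_mul, mul_comm (m / d) N, pow_mul, ht, hm, ← pow_mul]
      rw [div_eq_iff (pow_ne_zero _ hvπ0.ne'), ← pow_add, Nat.mod_add_div]
    have h2 : m % d = 0 := hmin _ _ (div_ne_zero hx0 (pow_ne_zero _ ht0)) h1 (Nat.mod_lt _ hd0)
    have h3 : v (x.1 / t ^ (m / d)) = 1 := hone _ (by rw [h1, h2, pow_zero])
    refine ⟨m / d, ?_⟩
    have h4 : x.1 / t ^ (m / d) ∈ O := (O.valuation_le_one_iff _).mp h3.le
    have hu : IsUnit (⟨x.1 / t ^ (m / d), h4⟩ : O) :=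
      (ValuationSubring.valuation_eq_one_iff O _).mpr h3
    obtain ⟨u, hu⟩ := hu
    refine ⟨u, ?_⟩
    rw [hu]
    ext
    change t ^ (m / d) * (x.1 / t ^ (m / d)) = x.1
    have := pow_ne_zero (m / d) ht0
    field_simp

/-- The values of a finite extension have bounded exponent over the values of the base. -/
theorem exists_pow_eq {L F Γ : Type*} [Field L] [Field F] [Algebra L F] [FiniteDimensional L F]
    [LinearOrderedCommGroupWithZero Γ] (v : Valuation F Γ) (y : F) (hy : y ≠ 0) :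
    ∃ i : ℕ, 0 < i ∧ i ≤ Module.finrank L F ∧ ∃ c : L, c ≠ 0 ∧ v y ^ i = v (algebraMap L F c) := by
  classical
  let p := minpoly L y
  have hp0 : p ≠ 0 := minpoly.ne_zero (Algebra.IsIntegral.isIntegral y)
  have hp : ∑ i ∈ p.support, algebraMap L F (p.coeff i) * y ^ i = 0 := by
    have := minpoly.aeval L y
    rwa [Polynomial.aeval_def, Polynomial.eval₂_eq_sum, Polynomial.sum_def] at this
  obtain ⟨i₀, hi₀, hmax⟩ := Finset.exists_max_image p.support
    (fun i => v (algebraMap L F (p.coeff i) * y ^ i)) (Polynomial.support_nonempty.mpr hp0)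
  have hc : ∀ i ∈ p.support, v (algebraMap L F (p.coeff i) * y ^ i) ≠ 0 := fun i hi => by
    rw [Valuation.ne_zero_iff]
    exact mul_ne_zero ((map_ne_zero _).mpr (Polynomial.mem_support_iff.mp hi)) (pow_ne_zero _ hy)
  have hex : ∃ i₁ ∈ p.support.erase i₀, v (algebraMap L F (p.coeff i₁) * y ^ i₁) =
      v (algebraMap L F (p.coeff i₀) * y ^ i₀) := by
    by_contra hcon
    push Not at hcon
    have h1 : v (∑ i ∈ p.support.erase i₀, algebraMap L F (p.coeff i) * y ^ i) <
        v (algebraMap L F (p.coeff i₀) * y ^ i₀) := by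
      apply Valuation.map_sum_lt _ (hc i₀ hi₀)
      intro i hi
      exact lt_of_le_of_ne (hmax i (Finset.mem_of_mem_erase hi)) (hcon i hi)
    rw [← Finset.add_sum_erase _ _ hi₀] at hp
    rw [eq_neg_of_add_eq_zero_right hp, Valuation.map_neg] at h1
    exact lt_irrefl _ h1
  obtain ⟨i₁, hi₁, he⟩ := hex
  have hne : i₁ ≠ i₀ := Finset.ne_of_mem_erase hi₁
  have hi₁' := Finset.mem_of_mem_erase hi₁
  have hdeg : ∀ i ∈ p.support, i ≤ Module.finrank L F := fun i hi =>
    (Polynomial.le_natDegree_of_mem_supp i hi).trans (minpoly.natDegree_le y)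
  -- the symmetric part
  have key : ∀ i j : ℕ, i ∈ p.support → j ∈ p.support → i < j →
      v (algebraMap L F (p.coeff i) * y ^ i) = v (algebraMap L F (p.coeff j) * y ^ j) →
      ∃ n : ℕ, 0 < n ∧ n ≤ Module.finrank L F ∧
        ∃ c : L, c ≠ 0 ∧ v y ^ n = v (algebraMap L F c) := by
    intro i j hi hj hij he
    have hci : p.coeff i ≠ 0 := Polynomial.mem_support_iff.mp hi
    have hcj : p.coeff j ≠ 0 := Polynomial.mem_support_iff.mp hj
    refine ⟨j - i, by omega, (Nat.sub_le _ _).trans (hdeg j hj), p.coeff i / p.coeff j,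
      div_ne_zero hci hcj, ?_⟩
    have hvy : v y ≠ 0 := (Valuation.ne_zero_iff v).mpr hy
    have hvcj : v (algebraMap L F (p.coeff j)) ≠ 0 :=
      (Valuation.ne_zero_iff v).mpr ((map_ne_zero _).mpr hcj)
    rw [map_mul, map_mul, map_pow, map_pow] at he
    rw [map_div₀, map_div₀, eq_div_iff hvcj, mul_comm]
    have h1 : v y ^ j = v y ^ (j - i) * v y ^ i := by
      rw [← pow_add, Nat.sub_add_cancel hij.le]
    rw [h1, ← mul_assoc] at he
    exact (mul_right_cancel₀ (pow_ne_zero _ hvy) he).symm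
  rcases lt_or_gt_of_ne hne with h1 | h1
  · exact key i₁ i₀ hi₁' hi₀ h1 he
  · exact key i₀ i₁ hi₀ hi₁' h1 he.symm

/-- Up to a power of a variable, every fraction is a unit of the degree valuation ring. -/
theorem exists_zpow {k ι L : Type*} [Field k] [Field L] [Algebra (MvPolynomial ι k) L]
    [IsFractionRing (MvPolynomial ι k) L] (i : ι) (c : L) (hc : c ≠ 0) :
    ∃ a : ℤ, c * (algebraMap (MvPolynomial ι k) L (X i)) ^ a ∈ degVal k ι L ∧
      (c * (algebraMap (MvPolynomial ι k) L (X i)) ^ a)⁻¹ ∈ degVal k ι L := by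
  obtain ⟨f, g, hg, rfl⟩ := IsFractionRing.div_surjective (A := MvPolynomial ι k) c
  have hg0 : g ≠ 0 := nonZeroDivisors.ne_zero hg
  have hf0 : f ≠ 0 := by
    rintro rfl
    simp at hc
  have hX0 : (X i : MvPolynomial ι k) ≠ 0 := X_ne_zero i
  have hdeg : ∀ n : ℕ, ((X i : MvPolynomial ι k) ^ n).totalDegree = n := fun n => by
    induction n with
    | zero => simp
    | succ n ih =>
      rw [pow_succ, totalDegree_mul_of_isDomain (pow_ne_zero _ hX0) hX0, ih, totalDegree_X]
  have hf1 : algebraMap (MvPolynomial ι k) L f ≠ 0 := by simpa using hf0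
  have hg1 : algebraMap (MvPolynomial ι k) L g ≠ 0 := by simpa using hg0
  have hX1 : algebraMap (MvPolynomial ι k) L (X i) ≠ 0 := by simp
  refine ⟨(g.totalDegree : ℤ) - f.totalDegree, ?_, ?_⟩
  · refine ⟨f * X i ^ g.totalDegree, g * X i ^ f.totalDegree,
      mul_ne_zero hg0 (pow_ne_zero _ hX0), ?_, ?_⟩
    · rw [totalDegree_mul_of_isDomain hf0 (pow_ne_zero _ hX0),
        totalDegree_mul_of_isDomain hg0 (pow_ne_zero _ hX0), hdeg, hdeg, add_comm]
    · rw [zpow_sub₀ hX1, zpow_natCast, zpow_natCast, map_mul, map_mul, map_pow, map_pow]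
      field_simp
  · refine ⟨g * X i ^ f.totalDegree, f * X i ^ g.totalDegree,
      mul_ne_zero hf0 (pow_ne_zero _ hX0), ?_, ?_⟩
    · rw [totalDegree_mul_of_isDomain hf0 (pow_ne_zero _ hX0),
        totalDegree_mul_of_isDomain hg0 (pow_ne_zero _ hX0), hdeg, hdeg, add_comm]
    · rw [zpow_sub₀ hX1, zpow_natCast, zpow_natCast, map_mul, map_mul, map_pow, map_pow]
      field_simp

/-- Valuation rings of a finite extension of `k(x)` lying over the degree valuation ring are
discrete. -/
theorem isDVR {k ι L F : Type*} [Field k] [Field L] [Algebra (MvPolynomial ι k) L]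
    [IsFractionRing (MvPolynomial ι k) L] [Field F] [Algebra L F] [FiniteDimensional L F]
    (i : ι) (O : ValuationSubring F) (hO : ∀ x : L, algebraMap L F x ∈ O ↔ x ∈ degVal k ι L) :
    IsDiscreteValuationRing O := by
  set x : L := algebraMap (MvPolynomial ι k) L (X i) with hx
  have hX0 : (X i : MvPolynomial ι k) ≠ 0 := X_ne_zero i
  have hx0 : x ≠ 0 := by simp [hx]
  have hy0 : algebraMap L F x⁻¹ ≠ 0 := (map_ne_zero _).mpr (inv_ne_zero hx0)
  refine isDVR_of_pow O (algebraMap L F x⁻¹) hy0 ?_ (Module.finrank L F).factorial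
    (Nat.factorial_ne_zero _) ?_
  · rw [map_inv₀, map_inv₀]
    have h1 : ¬ (algebraMap L F x ∈ O) := by
      rw [hO]
      rintro ⟨f, g, hg, hfg, h⟩
      rw [hx, ← map_mul] at h
      have h2 : X i * g = f := IsFractionRing.injective (MvPolynomial ι k) L h
      rw [← h2, totalDegree_mul_of_isDomain hX0 hg, totalDegree_X] at hfg
      omega
    have h2 : 1 < O.valuation (algebraMap L F x) := by
      rw [← not_le, ValuationSubring.valuation_le_one_iff]
      exact h1
    exact inv_lt_one_of_one_lt₀ h2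
  · intro y hy
    obtain ⟨n, hn0, hn, c, hc, h⟩ := exists_pow_eq (L := L) O.valuation y hy
    obtain ⟨m, hm⟩ := Nat.dvd_factorial hn0 hn
    obtain ⟨a, ha1, ha2⟩ := exists_zpow (k := k) i c hc
    rw [← hx] at ha1 ha2
    have h1 : O.valuation (algebraMap L F (c * x ^ a)) = 1 := by
      apply le_antisymm
      · rw [ValuationSubring.valuation_le_one_iff, hO]
        exact ha1
      · have h3 : O.valuation (algebraMap L F (c * x ^ a)⁻¹) ≤ 1 := by
          rw [ValuationSubring.valuation_le_one_iff, hO]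
          exact ha2
        rw [map_inv₀, map_inv₀] at h3
        have h4 : O.valuation (algebraMap L F (c * x ^ a)) ≠ 0 :=
          (Valuation.ne_zero_iff _).mpr ((map_ne_zero _).mpr (mul_ne_zero hc (zpow_ne_zero _ hx0)))
        exact (inv_le_one₀ (zero_lt_iff.mpr h4)).mp h3
    have h2 : O.valuation (algebraMap L F c) = O.valuation (algebraMap L F x⁻¹) ^ a := by
      rw [map_mul, map_zpow₀, map_mul, map_zpow₀] at h1
      rw [map_inv₀, map_inv₀, inv_zpow]
      exact eq_inv_of_mul_eq_one_left h1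
    refine ⟨a * m, ?_⟩
    rw [hm, pow_mul, h, h2, zpow_mul, zpow_natCast]

end Groth.Agent.Sga7.H290.Dvr
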