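import Groth.Agent.Sga7.H290.FinDim
import Groth.Agent.Sga7.H290.Dvr

/-!
# Finitely many discrete valuation rings detecting finite-dimensionality in an affine domain

The version of `FinDim.exists_valuationSubrings` where the valuation rings are discrete.
-/

universe u v

namespace Groth.Agent.Sga7.H290.FinDimDVR

open MvPolynomial Groth.Agent.Sga7.H290.DegVal
open scoped nonZeroDivisors

/-- The abstract form, over a Noether normalisation; the valuation rings lie over the degree
valuation ring. -/
theorem exists_valuationSubrings_of_finite {k : Type*} [Field k] [PerfectField k]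
    {ι B L F : Type*} [Finite ι] [CommRing B] [IsDomain B] [Algebra k B]
    [Algebra (MvPolynomial ι k) B] [IsScalarTower k (MvPolynomial ι k) B]
    [Module.Finite (MvPolynomial ι k) B]
    [Field L] [Algebra (MvPolynomial ι k) L] [IsFractionRing (MvPolynomial ι k) L]
    [Field F] [Algebra B F] [IsFractionRing B F] [Algebra (MvPolynomial ι k) F]
    [IsScalarTower (MvPolynomial ι k) B F] [Algebra L F] [IsScalarTower (MvPolynomial ι k) L F]
    [FiniteDimensional L F] [Algebra k F] [IsScalarTower k B F] :
    ∃ (m : ℕ) (O : Fin m → ValuationSubring F),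
      (∀ j (x : L), algebraMap L F x ∈ O j ↔ x ∈ degVal k ι L) ∧
      (∀ j (a : k), algebraMap k F a ∈ O j) ∧
      ∀ c : Fin m → F, (∀ j, c j ≠ 0) → ∃ V : Submodule k B, Module.Finite k V ∧
        ∀ b : B, (∀ j, c j * algebraMap B F b ∈ O j) → b ∈ V := by
  classical
  let P := MvPolynomial ι k
  let E := separableClosure L F
  let Ω := AlgebraicClosure L
  let : Algebra k L := ((algebraMap P L).comp (algebraMap k P)).toAlgebra
  have : IsScalarTower k P L := IsScalarTower.of_algebraMap_eq fun _ => rfl
  have : IsScalarTower k P F := IsScalarTower.of_algebraMap_eq fun x => by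
    rw [IsScalarTower.algebraMap_apply k B F, IsScalarTower.algebraMap_apply k P B,
      ← IsScalarTower.algebraMap_apply P B F]
  have : IsScalarTower k L F := IsScalarTower.of_algebraMap_eq fun x => by
    rw [IsScalarTower.algebraMap_apply k P F, IsScalarTower.algebraMap_apply k P L,
      ← IsScalarTower.algebraMap_apply P L F]
  obtain ⟨p, hp⟩ := ExpChar.exists k
  have : ExpChar L p := expChar_of_injective_algebraMap (algebraMap k L).injective p
  have : ExpChar F p := expChar_of_injective_algebraMap (algebraMap k F).injective p
  have : ExpChar E p := expChar_of_injective_algebraMap (algebraMap L E).injective p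
  let φ : F →+* E := IsPurelyInseparable.iterateFrobenius E F p le_rfl
  let n := IsPurelyInseparable.exponent E F
  have hφ : ∀ y : F, algebraMap E F (φ y) = y ^ p ^ n := fun y =>
    IsPurelyInseparable.algebraMap_iterateFrobenius E p le_rfl y
  have hφk : ∀ a : k, φ (algebraMap k F a) = algebraMap L E (algebraMap k L (a ^ p ^ n)) := by
    intro a
    apply (algebraMap E F).injective
    rw [hφ, ← IsScalarTower.algebraMap_apply L E F, ← IsScalarTower.algebraMap_apply k L F,
      map_pow]
  obtain ⟨A', hA'⟩ := exists_ext (Ω := Ω) (degVal k ι L)
  let ε := (Fintype.equivFin (E →ₐ[L] Ω)).symm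
  have hφL : ∀ a : L, φ (algebraMap L F a) = algebraMap L E (a ^ p ^ n) := by
    intro a
    apply (algebraMap E F).injective
    rw [hφ, ← IsScalarTower.algebraMap_apply L E F, map_pow]
  refine ⟨_, fun j => A'.comap (((ε j).toRingHom).comp φ), ?_, ?_, ?_⟩
  · intro j x
    change (ε j) (φ (algebraMap L F x)) ∈ A' ↔ _
    rw [hφL, AlgHom.commutes, hA']
    have hq : p ^ n ≠ 0 := (expChar_pow_pos k p n).ne'
    rw [← ValuationSubring.valuation_le_one_iff, ← ValuationSubring.valuation_le_one_iff,
      map_pow, pow_le_one_iff_of_nonneg zero_le hq]
  · intro j a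
    change (ε j) (φ (algebraMap k F a)) ∈ A'
    rw [hφk, AlgHom.commutes, hA']
    exact algebraMap_C_mem _
  intro c hc
  obtain ⟨s, e, he⟩ := FiniteDimensional.exists_is_basis_integral P L E
  obtain ⟨N, hN⟩ := SepBound.exists_bound A' hA' (fun i => e i) he
    (fun σ => σ (φ (c (ε.symm σ)))) (fun σ => by simpa using hc _)
  let S : Submodule k L :=
    (restrictTotalDegree ι k N).map (IsScalarTower.toAlgHom k P L).toLinearMap
  have hS : Module.Finite k S := inferInstance
  let T : B →+ (s → L) :=
    { toFun := fun b i => Algebra.trace L E (φ (algebraMap B F b) * e i)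
      map_zero' := by
        funext i
        simp
      map_add' := fun b b' => by
        funext i
        simp [add_mul] }
  have hT : ∀ b i, T b i = Algebra.trace L E (φ (algebraMap B F b) * e i) := fun _ _ => rfl
  have hTs : ∀ (a : k) (b : B) i, T (a • b) i = (a ^ p ^ n) • T b i := by
    intro a b i
    have h1 : φ (algebraMap B F (a • b)) = (algebraMap k L (a ^ p ^ n)) • φ (algebraMap B F b) := by
      rw [Algebra.smul_def a b, map_mul, map_mul, ← IsScalarTower.algebraMap_apply k B F, hφk,
        ← Algebra.smul_def]
    rw [hT, hT, h1, smul_mul_assoc, map_smul, algebra_compatible_smul L (a ^ p ^ n)]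
  have hinj : Function.Injective T := by
    rw [injective_iff_map_eq_zero]
    intro b hb
    have h1 : ∀ y : E, Algebra.traceForm L E (φ (algebraMap B F b)) y = 0 := by
      have : Algebra.traceForm L E (φ (algebraMap B F b)) = 0 := by
        apply e.ext
        intro i
        have := congrFun hb i
        simpa [hT] using this
      intro y
      rw [this]
      rfl
    have h2 : φ (algebraMap B F b) = 0 := (traceForm_nondegenerate L E).1 _ h1
    have h3 : algebraMap B F b = 0 := by simpa using h2
    exact (map_eq_zero_iff _ (IsFractionRing.injective B F)).mp h3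
  let V : Submodule k B :=
    { carrier := {b | ∀ i, T b i ∈ S}
      add_mem' := fun {b b'} hb hb' i => by
        rw [map_add]
        exact S.add_mem (hb i) (hb' i)
      zero_mem' := fun i => by
        rw [map_zero]
        exact S.zero_mem
      smul_mem' := fun a b hb i => by
        rw [hTs]
        exact S.smul_mem _ (hb i) }
  refine ⟨V, ?_, ?_⟩
  · let T' : V →+ (s → S) :=
      { toFun := fun b i => ⟨T b i, b.2 i⟩
        map_zero' := by
          funext i
          ext
          simp
        map_add' := fun b b' => by
          funext i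
          ext
          simp }
    refine SepBound.finite_of_injective_semilinear (iterateFrobeniusEquiv k p n) T' ?_ ?_
    · intro a b
      funext i
      ext
      exact hTs a b i
    · intro b b' h
      apply Subtype.ext
      apply hinj
      funext i
      exact congrArg Subtype.val (congrFun h i)
  · intro b hb i
    have hPEF : IsScalarTower P E F := IsScalarTower.of_algebraMap_eq fun x => by
      rw [IsScalarTower.algebraMap_apply P L F, IsScalarTower.algebraMap_apply P L E,
        ← IsScalarTower.algebraMap_apply L E F]
    have hint : IsIntegral P (φ (algebraMap B F b)) := by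
      have h1 : IsIntegral P (algebraMap B F b) :=
        (Algebra.IsIntegral.isIntegral (R := P) b).algebraMap
      rw [← isIntegral_algebraMap_iff (algebraMap E F).injective, hφ]
      exact h1.pow _
    obtain ⟨q, hq, hq'⟩ := hN _ hint (fun σ => by
      have := hb (ε.symm σ)
      change (ε (ε.symm σ)) (φ (c (ε.symm σ) * algebraMap B F b)) ∈ A' at this
      rw [map_mul, map_mul, Equiv.apply_symm_apply] at this
      exact this) i
    exact ⟨q, (mem_restrictTotalDegree _ _ _).mpr hq, hq'⟩

/-- Finitely many valuation rings of the fraction field detect finite-dimensionality in a domain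
of finite type over a perfect (e.g. algebraically closed) field. -/
theorem exists_valuationSubrings (k : Type u) [Field k] [PerfectField k] (B F : Type u)
    [CommRing B] [IsDomain B] [Algebra k B] [Algebra.FiniteType k B]
    [Field F] [Algebra B F] [IsFractionRing B F] [Algebra k F] [IsScalarTower k B F] :
    ∃ (m : ℕ) (O : Fin m → ValuationSubring F),
      (∀ j, IsDiscreteValuationRing (O j)) ∧ (∀ j (a : k), algebraMap k F a ∈ O j) ∧
      ∀ c : Fin m → F, (∀ j, c j ≠ 0) → ∃ V : Submodule k B, Module.Finite k V ∧
        ∀ b : B, (∀ j, c j * algebraMap B F b ∈ O j) → b ∈ V := by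
  obtain ⟨s, f, hinj, hfin⟩ := exists_finite_inj_algHom_of_fg k B
  let P := MvPolynomial (Fin s) k
  let L := FractionRing P
  let : Algebra P B := f.toRingHom.toAlgebra
  have : IsScalarTower k P B := IsScalarTower.of_algebraMap_eq fun x => (f.commutes x).symm
  have : Module.Finite P B := hfin
  have : FaithfulSMul P B := (faithfulSMul_iff_algebraMap_injective P B).mpr hinj
  let : Algebra P F := ((algebraMap B F).comp (algebraMap P B)).toAlgebra
  have : IsScalarTower P B F := IsScalarTower.of_algebraMap_eq fun _ => rfl
  have : FaithfulSMul P F := (faithfulSMul_iff_algebraMap_injective P F).mpr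
    ((IsFractionRing.injective B F).comp hinj)
  let : Algebra L F := FractionRing.liftAlgebra P F
  have : IsScalarTower P L F := FractionRing.isScalarTower_liftAlgebra P F
  have : FiniteDimensional L F := FinDim.finiteDimensional (P := P) (B := B)
  rcases Nat.eq_zero_or_pos s with rfl | hs
  · -- `B` is finite over `k`
    have hP : Function.Surjective (algebraMap k P) := (isEmptyRingEquiv k (Fin 0)).symm.surjective
    have : Module.Finite k P := Module.Finite.of_surjective (Algebra.linearMap k P) hP
    have : Module.Finite k B := Module.Finite.trans P B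
    exact ⟨0, fun j => j.elim0, fun j => j.elim0, fun j => j.elim0,
      fun _ _ => ⟨⊤, inferInstance, fun _ _ => trivial⟩⟩
  · obtain ⟨m, O, h1, h2, h3⟩ :=
      exists_valuationSubrings_of_finite (k := k) (ι := Fin s) (B := B) (L := L) (F := F)
    exact ⟨m, O, fun j => Dvr.isDVR (k := k) (L := L) ⟨0, hs⟩ (O j) (h1 j), h2, h3⟩

end Groth.Agent.Sga7.H290.FinDimDVR
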