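import Groth.Agent.Sga7.H290.DegVal
import Mathlib.RingTheory.Trace.Basic
import Mathlib.RingTheory.Polynomial.UniqueFactorization
import Mathlib.RingTheory.Polynomial.RationalRoot
import Mathlib.FieldTheory.PurelyInseparable.Exponent
import Mathlib.RingTheory.DedekindDomain.IntegralClosure
import Mathlib.RingTheory.MvPolynomial.Basic

/-!
# Traces of elements which are integral over a polynomial ring and bounded at infinity
-/

namespace Groth.Agent.Sga7.H290.SepBound

open MvPolynomial Groth.Agent.Sga7.H290.DegVal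

/-- An element `y` of a finite separable extension `E` of `L = k(x_1, …, x_n)` which is integral
over `k[x_1, …, x_n]` and whose conjugates are bounded with respect to (an extension of) the
valuation at infinity has traces `Tr (y e)` of bounded degree. -/
theorem exists_bound {k ι L E Ω : Type*} [Field k] [Finite ι] [Field L]
    [Algebra (MvPolynomial ι k) L] [IsFractionRing (MvPolynomial ι k) L]
    [Field E] [Algebra (MvPolynomial ι k) E] [Algebra L E]
    [IsScalarTower (MvPolynomial ι k) L E] [FiniteDimensional L E] [Algebra.IsSeparable L E]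
    [Field Ω] [IsAlgClosed Ω] [Algebra L Ω] [Algebra.IsAlgebraic L Ω]
    (A' : ValuationSubring Ω) (hA' : ∀ x, algebraMap L Ω x ∈ A' ↔ x ∈ degVal k ι L)
    {J : Type*} [Finite J] (e : J → E) (he : ∀ i, IsIntegral (MvPolynomial ι k) (e i))
    (d : (E →ₐ[L] Ω) → Ω) (hd : ∀ σ, d σ ≠ 0) :
    ∃ N : ℕ, ∀ y : E, IsIntegral (MvPolynomial ι k) y →
      (∀ σ : E →ₐ[L] Ω, d σ * σ y ∈ A') → ∀ i, ∃ p : MvPolynomial ι k,
        p.totalDegree ≤ N ∧ algebraMap _ L p = Algebra.trace L E (y * e i) := by
  classical
  have : Fintype J := Fintype.ofFinite J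
  obtain ⟨g, hg, h⟩ := exists_mul_mem (L := L) A'
    (Finset.univ.image fun q : (E →ₐ[L] Ω) × J => q.1 (e q.2) / d q.1)
  obtain ⟨N, hN⟩ := DegVal.exists_bound (k := k) (ι := ι) g hg
  refine ⟨N, fun y hy hσ i => ?_⟩
  have h1 : IsIntegral (MvPolynomial ι k) (Algebra.trace L E (y * e i)) :=
    Algebra.isIntegral_trace (hy.mul (he i))
  obtain ⟨p, hp⟩ := IsIntegrallyClosed.isIntegral_iff.mp h1
  refine ⟨p, hN p ?_, hp⟩
  rw [← hA', hp, map_mul, trace_eq_sum_embeddings Ω, Finset.mul_sum]
  refine sum_mem fun σ _ => ?_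
  have h2 : algebraMap L Ω g * σ (y * e i) =
      (algebraMap L Ω g * (σ (e i) / d σ)) * (d σ * σ y) := by
    rw [map_mul]
    have := hd σ
    field_simp
  rw [h2]
  exact mul_mem (h _ (Finset.mem_image.mpr ⟨(σ, i), Finset.mem_univ _, rfl⟩)) (hσ σ)

/-- Semilinear version of "a subspace of a finite-dimensional space is finite-dimensional". -/
theorem finite_of_injective_semilinear {k V W : Type*} [Field k] [AddCommGroup V] [Module k V]
    [AddCommGroup W] [Module k W] [Module.Finite k W] (φ : k ≃+* k)
    (T : V →+ W) (hT : ∀ (a : k) (v : V), T (a • v) = φ a • T v) (hinj : Function.Injective T) :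
    Module.Finite k V := by
  have : RingHomInvPair (φ : k →+* k) (φ.symm : k →+* k) := RingHomInvPair.of_ringEquiv φ
  have : RingHomInvPair (φ.symm : k →+* k) (φ : k →+* k) := RingHomInvPair.of_ringEquiv φ.symm
  let T' : V →ₛₗ[(φ : k →+* k)] W := { T with map_smul' := hT }
  let e : V ≃ₛₗ[(φ : k →+* k)] LinearMap.range T' := LinearEquiv.ofInjective T' hinj
  exact Module.Finite.of_surjective e.symm.toLinearMap e.symm.surjective

end Groth.Agent.Sga7.H290.SepBound
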